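import Mathlib.AlgebraicGeometry.AffineScheme
import Mathlib.Topology.Sheaves.SheafCondition.UniqueGluing
import Mathlib.Tactic

/-!
# Sheaves on the basis of affine opens from binary standard covers
-/

set_option autoImplicit false

universe u

open CategoryTheory AlgebraicGeometry TopologicalSpace Opposite

namespace Groth.Agent.AffBasis

variable {X : Scheme.{u}}

/-- restriction -/
def R (F : (X.affineOpens)ᵒᵖ ⥤ Type u) {V U : X.affineOpens} (h : V ≤ U) (s : F.obj (op U)) : F.obj (op V) :=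
  F.map (homOfLE h).op s

theorem R_trans (F : (X.affineOpens)ᵒᵖ ⥤ Type u) {W V U : X.affineOpens} (h : W ≤ V) (h' : V ≤ U)
    (s : F.obj (op U)) : R F h (R F h' s) = R F (h.trans h') s := by
  unfold R
  rw [show (homOfLE (h.trans h')).op = (homOfLE h').op ≫ (homOfLE h).op from Subsingleton.elim _ _,
    F.map_comp]
  rfl

theorem R_self (F : (X.affineOpens)ᵒᵖ ⥤ Type u) {U : X.affineOpens} (s : F.obj (op U)) :
    R F (le_refl U) s = s := by
  unfold R
  rw [show (homOfLE (le_refl U)).op = 𝟙 (op U) from Subsingleton.elim _ _, F.map_id]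
  rfl

/-- the basic open as an affine open -/
def bo (U : X.affineOpens) (f : Γ(X, U.1)) : X.affineOpens := ⟨X.basicOpen f, U.2.basicOpen f⟩

theorem bo_le (U : X.affineOpens) (f : Γ(X, U.1)) : bo U f ≤ U := X.basicOpen_le f

/-- The hypothesis: binary standard covers. -/
def Pair (F : (X.affineOpens)ᵒᵖ ⥤ Type u) : Prop :=
  ∀ (U : X.affineOpens) (f g : Γ(X, U.1)), U.1 ≤ X.basicOpen f ⊔ X.basicOpen g →
    (∀ s t : F.obj (op U), R F (bo_le U f) s = R F (bo_le U f) t → R F (bo_le U g) s = R F (bo_le U g) t → s = t) ∧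
    ∀ (a : F.obj (op (bo U f))) (b : F.obj (op (bo U g))),
      (∀ (h1 : bo U (f * g) ≤ bo U f) (h2 : bo U (f * g) ≤ bo U g), R F h1 a = R F h2 b) →
      ∃ s, R F (bo_le U f) s = a ∧ R F (bo_le U g) s = b

theorem basicOpen_res' {V U : X.Opens} (h : V ≤ U) (f : Γ(X, U)) :
    X.basicOpen (X.presheaf.map (homOfLE h).op f) = V ⊓ X.basicOpen f :=
  Scheme.basicOpen_res _ _ _

theorem res_cover {U : X.affineOpens} {n : ℕ} {f : Fin n → Γ(X, U.1)} {V : X.affineOpens} (h : V ≤ U)
    (hV : V.1 ≤ ⨆ i, X.basicOpen (f i)) :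
    V.1 ≤ ⨆ i, X.basicOpen (X.presheaf.map (homOfLE (show V.1 ≤ U.1 from h)).op (f i)) :=
  le_of_le_of_eq (le_inf le_rfl hV)
    ((inf_iSup_eq _ _).trans (iSup_congr fun i => (basicOpen_res' (show V.1 ≤ U.1 from h) (f i)).symm))

theorem res_bo_le {U V : X.affineOpens} (h : V ≤ U) (f : Γ(X, U.1)) :
    bo V (X.presheaf.map (homOfLE (show V.1 ≤ U.1 from h)).op f) ≤ bo U f :=
  (basicOpen_res' (show V.1 ≤ U.1 from h) f).trans_le inf_le_right

theorem le_res_bo {U V W : X.affineOpens} (h : V ≤ U) (f : Γ(X, U.1)) (hWV : W ≤ V) (hWf : W ≤ bo U f) :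
    W ≤ bo V (X.presheaf.map (homOfLE (show V.1 ≤ U.1 from h)).op f) :=
  (le_trans (le_inf hWV hWf : W.1 ≤ V.1 ⊓ X.basicOpen f) (basicOpen_res' (show V.1 ≤ U.1 from h) f).ge :
    W.1 ≤ X.basicOpen _)

theorem exists_split {U : X.affineOpens} {n : ℕ} (f : Fin (n + 1) → Γ(X, U.1))
    (hU : U.1 ≤ ⨆ i, X.basicOpen (f i)) :
    ∃ g : Γ(X, U.1), U.1 ≤ X.basicOpen (f 0) ⊔ X.basicOpen g ∧
      X.basicOpen g ≤ ⨆ i : Fin n, X.basicOpen (f i.succ) := by
  have h1 : Ideal.span (Set.range f) = ⊤ := by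
    rw [← U.2.self_le_iSup_basicOpen_iff]
    refine hU.trans (iSup_le fun i => ?_)
    exact le_iSup (fun g : Set.range f => X.basicOpen g.1) ⟨f i, i, rfl⟩
  obtain ⟨a, ha⟩ := Ideal.mem_span_range_iff_exists_fun.mp (h1 ▸ Submodule.mem_top (x := (1 : Γ(X, U.1))))
  refine ⟨∑ i : Fin n, a i.succ * f i.succ, ?_, ?_⟩
  · refine (IsAffineOpen.self_le_iSup_basicOpen_iff U.2 (s := {f 0, ∑ i : Fin n, a i.succ * f i.succ})).2 ?_ |>.trans
      (iSup_le fun ⟨x, hx⟩ => by rcases hx with rfl | rfl; exacts [le_sup_left, le_sup_right])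
    rw [Ideal.eq_top_iff_one, Ideal.mem_span_pair]
    exact ⟨a 0, 1, by rw [one_mul, ← ha, Fin.sum_univ_succ]⟩
  · induction (Finset.univ : Finset (Fin n)) using Finset.induction_on with
    | empty => simp
    | insert j s hj ih =>
      rw [Finset.sum_insert hj]
      refine (X.basicOpen_add_le _ _).trans (sup_le ?_ ih)
      rw [Scheme.basicOpen_mul]
      exact inf_le_right.trans (le_iSup (fun i : Fin n => X.basicOpen (f i.succ)) j)

theorem sep {F : (X.affineOpens)ᵒᵖ ⥤ Type u} (hp : Pair F) (E : X.affineOpens) (hE : (E : X.Opens) = ⊥)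
    (hss : Subsingleton (F.obj (op E))) :
    ∀ (n : ℕ) (U : X.affineOpens) (f : Fin n → Γ(X, U.1)), U.1 ≤ ⨆ i, X.basicOpen (f i) →
      ∀ s t : F.obj (op U), (∀ i, R F (bo_le U (f i)) s = R F (bo_le U (f i)) t) → s = t := by
  intro n
  induction n with
  | zero =>
    intro U f hU s t _
    have hUE : U = E := Subtype.ext (by rw [hE]; exact le_bot_iff.1 (hU.trans (by simp)))
    subst hUE
    exact Subsingleton.elim s t
  | succ n ih =>
    intro U f hU s t hst
    obtain ⟨g, hg1, hg2⟩ := exists_split f hU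
    refine (hp U (f 0) g hg1).1 s t (hst 0) ?_
    refine ih (bo U g) (fun i => X.presheaf.map (homOfLE (X.basicOpen_le g)).op (f i.succ)) ?_ _ _ fun i => ?_
    · exact res_cover (bo_le U g) (f := fun i => f i.succ) hg2
    · have h3 := congrArg (R F (res_bo_le (bo_le U g) (f i.succ))) (hst i.succ)
      simp only [R_trans] at h3 ⊢
      exact h3

theorem glue {F : (X.affineOpens)ᵒᵖ ⥤ Type u} (hp : Pair F) (E : X.affineOpens) (hE : (E : X.Opens) = ⊥)
    (hss : Subsingleton (F.obj (op E))) (hne : Nonempty (F.obj (op E))) :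
    ∀ (n : ℕ) (U : X.affineOpens) (f : Fin n → Γ(X, U.1)), U.1 ≤ ⨆ i, X.basicOpen (f i) →
      ∀ s : ∀ i, F.obj (op (bo U (f i))),
        (∀ i j (W : X.affineOpens) (h1 : W ≤ bo U (f i)) (h2 : W ≤ bo U (f j)), R F h1 (s i) = R F h2 (s j)) →
        ∃ t : F.obj (op U), ∀ i, R F (bo_le U (f i)) t = s i := by
  intro n
  induction n with
  | zero =>
    intro U f hU s _
    have hUE : U = E := Subtype.ext (by rw [hE]; exact le_bot_iff.1 (hU.trans (by simp)))
    subst hUE
    exact ⟨hne.some, fun i => i.elim0⟩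
  | succ n ih =>
    intro U f hU s hs
    obtain ⟨g, hg1, hg2⟩ := exists_split f hU
    let G := bo U g
    let f' : Fin n → Γ(X, G.1) := fun i => X.presheaf.map (homOfLE (X.basicOpen_le g)).op (f i.succ)
    have hcov : G.1 ≤ ⨆ i, X.basicOpen (f' i) := res_cover (bo_le U g) (f := fun i => f i.succ) hg2
    obtain ⟨t, ht⟩ := ih G f' hcov (fun i => R F (res_bo_le (bo_le U g) (f i.succ)) (s i.succ))
      fun i j W h1 h2 => by simp only [R_trans]; exact hs _ _ _ _ _
    have hagree : ∀ (h1 : bo U (f 0 * g) ≤ bo U (f 0)) (h2 : bo U (f 0 * g) ≤ bo U g),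
        R F h1 (s 0) = R F h2 t := by
      intro h1 h2
      refine sep hp E hE hss n (bo U (f 0 * g))
        (fun i => X.presheaf.map (homOfLE (X.basicOpen_le (f 0 * g))).op (f i.succ)) ?_ _ _ fun i => ?_
      · refine res_cover (bo_le U (f 0 * g)) (f := fun i => f i.succ) (le_trans ?_ hg2)
        exact ((X.basicOpen_mul _ _).trans_le inf_le_right : X.basicOpen (f 0 * g) ≤ X.basicOpen g)
      · set W := bo (bo U (f 0 * g)) (X.presheaf.map (homOfLE (X.basicOpen_le (f 0 * g))).op (f i.succ))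
        have hW : W ≤ bo G (f' i) :=
          le_res_bo (bo_le U g) _ ((bo_le _ _).trans h2) (res_bo_le (bo_le U (f 0 * g)) _)
        rw [R_trans, R_trans]
        have h4 := congrArg (R F hW) (ht i)
        simp only [R_trans] at h4
        rw [h4]
        exact hs _ _ _ _ _
    obtain ⟨u, hu0, hug⟩ := (hp U (f 0) g hg1).2 (s 0) t hagree
    refine ⟨u, fun j => ?_⟩
    refine Fin.cases hu0 (fun i => ?_) j
    let V := bo U (f i.succ)
    refine sep hp E hE hss 2 V ![X.presheaf.map (homOfLE (X.basicOpen_le (f i.succ))).op (f 0),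
      X.presheaf.map (homOfLE (X.basicOpen_le (f i.succ))).op g] ?_ _ _ fun l => ?_
    · refine le_trans ?_ (sup_le (le_iSup (fun l : Fin 2 => X.basicOpen (![_, _] l)) 0)
        (le_iSup (fun l : Fin 2 => X.basicOpen (![_, _] l)) 1))
      refine le_of_le_of_eq (le_inf le_rfl ((X.basicOpen_le _).trans hg1)) ?_
      refine (inf_sup_left _ _ _).trans ?_
      exact congrArg₂ (· ⊔ ·) (basicOpen_res' (bo_le U (f i.succ)) _).symm
        (basicOpen_res' (bo_le U (f i.succ)) _).symm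
    · match l with
      | ⟨0, _⟩ =>
        simp only [Matrix.cons_val_zero, Fin.zero_eta, R_trans]
        have hle := res_bo_le (bo_le U (f i.succ)) (f 0)
        have h4 := congrArg (R F hle) hu0
        simp only [R_trans] at h4
        exact h4.trans (hs _ _ _ _ _)
      | ⟨1, _⟩ =>
        simp only [Matrix.cons_val_one, Fin.mk_one, R_trans]
        have hle : bo V (X.presheaf.map (homOfLE (X.basicOpen_le (f i.succ))).op g) ≤ bo G (f' i) :=
          le_res_bo (bo_le U g) _ (res_bo_le (bo_le U (f i.succ)) g) (bo_le _ _)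
        have h4 := congrArg (R F hle) (ht i)
        simp only [R_trans] at h4
        have hle2 := res_bo_le (bo_le U (f i.succ)) g
        have h5 := congrArg (R F hle2) hug
        simp only [R_trans] at h5
        exact h5.trans h4

/-- every open cover of an affine open is refined by a finite standard cover -/
theorem exists_refine (U : X.affineOpens) {ι : Type u} (O : ι → X.Opens) (h : U.1 ≤ ⨆ i, O i) :
    ∃ (n : ℕ) (f : Fin n → Γ(X, U.1)) (c : Fin n → ι),
      U.1 ≤ ⨆ l, X.basicOpen (f l) ∧ ∀ l, X.basicOpen (f l) ≤ O (c l) := by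
  have hx : ∀ x : U.1, ∃ (f : Γ(X, U.1)) (i : ι), x.1 ∈ X.basicOpen f ∧ X.basicOpen f ≤ O i := by
    intro x
    obtain ⟨i, hi⟩ := Opens.mem_iSup.1 (h x.2)
    obtain ⟨f, hle, hxf⟩ := U.2.exists_basicOpen_le (V := O i) ⟨x.1, hi⟩ x.2
    exact ⟨f, i, hxf, hle⟩
  choose f i hxf hle using hx
  obtain ⟨t, ht⟩ := U.2.isCompact.elim_finite_subcover (fun x : U.1 => (X.basicOpen (f x) : Set X))
    (fun x => (X.basicOpen (f x)).isOpen) (fun x hx => Set.mem_iUnion.2 ⟨⟨x, hx⟩, hxf ⟨x, hx⟩⟩)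
  refine ⟨t.card, fun l => f (t.equivFin.symm l).1, fun l => i (t.equivFin.symm l).1, fun x hx => ?_,
    fun l => hle _⟩
  obtain ⟨y, hy, hxy⟩ := Set.mem_iUnion₂.1 (ht hx)
  exact Opens.mem_iSup.2 ⟨t.equivFin ⟨y, hy⟩, by simpa using hxy⟩

end Groth.Agent.AffBasis
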