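import Groth.Agent.AffBasis.Glue

/-!
# The sheaf attached to a presheaf on affine opens
-/

set_option autoImplicit false

universe u

open CategoryTheory AlgebraicGeometry TopologicalSpace Opposite

namespace Groth.Agent.AffBasis

variable {X : Scheme.{u}}

/-- the affine opens as a functor to opens -/
abbrev incl (X : Scheme.{u}) : X.affineOpens ⥤ X.Opens :=
  Monotone.functor (f := fun U : X.affineOpens => (U : X.Opens)) (fun _ _ h => h)

/-- compatible families on the affine opens inside an open -/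
@[ext] structure Fam (F : (X.affineOpens)ᵒᵖ ⥤ Type u) (U : X.Opens) : Type u where
  val : ∀ V : X.affineOpens, V.1 ≤ U → F.obj (op V)
  nat : ∀ (V W : X.affineOpens) (h : W ≤ V) (hV : V.1 ≤ U) (hW : W.1 ≤ U), R F h (val V hV) = val W hW

/-- restriction of families -/
def Fam.res {F : (X.affineOpens)ᵒᵖ ⥤ Type u} {U U' : X.Opens} (h : U' ≤ U) (s : Fam F U) : Fam F U' :=
  ⟨fun V hV => s.val V (hV.trans h), fun V W hWV hV hW => s.nat V W hWV _ _⟩

/-- the presheaf of families -/
def ext (F : (X.affineOpens)ᵒᵖ ⥤ Type u) : TopCat.Presheaf (Type u) X.carrier where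
  obj U := Fam F U.unop
  map i := ↾fun s => s.res i.unop.le

theorem isSheaf_ext {F : (X.affineOpens)ᵒᵖ ⥤ Type u} (hp : Pair F) (E : X.affineOpens) (hE : (E : X.Opens) = ⊥)
    (hss : Subsingleton (F.obj (op E))) (hne : Nonempty (F.obj (op E))) : (ext F).IsSheaf := by
  rw [TopCat.Presheaf.isSheaf_iff_isSheafUniqueGluing_types]
  intro ι U sf hcomp
  have hc : ∀ i j (W : X.affineOpens) (hi : W.1 ≤ U i) (hj : W.1 ≤ U j), (sf i).val W hi = (sf j).val W hj := by
    intro i j W hi hj
    have h := congrArg (fun s : Fam F (U i ⊓ U j) => s.val W (le_inf hi hj)) (hcomp i j)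
    exact h
  have key : ∀ V : X.affineOpens, V.1 ≤ iSup U → ∃ t : F.obj (op V),
      ∀ i (W : X.affineOpens) (h : W ≤ V) (hW : W.1 ≤ U i), R F h t = (sf i).val W hW := by
    intro V hV
    obtain ⟨n, f, c, hf, hle⟩ := exists_refine V U hV
    obtain ⟨t, ht⟩ := glue hp E hE hss hne n V f hf (fun l => (sf (c l)).val (bo V (f l)) (hle l))
      (fun a b W h1 h2 => by
        rw [(sf (c a)).nat _ W h1 _ (le_trans (show W.1 ≤ X.basicOpen (f a) from h1) (hle a)),
          (sf (c b)).nat _ W h2 _ (le_trans (show W.1 ≤ X.basicOpen (f b) from h2) (hle b))]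
        exact hc _ _ _ _ _)
    refine ⟨t, fun i W h hW => ?_⟩
    refine sep hp E hE hss n W (fun l => X.presheaf.map (homOfLE (show W.1 ≤ V.1 from h)).op (f l))
      (res_cover h (le_trans (show W.1 ≤ V.1 from h) hf)) _ _ fun l => ?_
    have hW' : (bo W (X.presheaf.map (homOfLE (show W.1 ≤ V.1 from h)).op (f l))).1 ≤ U i :=
      le_trans (bo_le W _ : _ ≤ W) hW
    rw [R_trans, (sf i).nat W _ (bo_le W _) hW hW']
    have h4 := congrArg (R F (res_bo_le h (f l))) (ht l)
    rw [R_trans] at h4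
    have hcl : (bo W (X.presheaf.map (homOfLE (show W.1 ≤ V.1 from h)).op (f l))).1 ≤ U (c l) :=
      le_trans (res_bo_le h (f l) : _ ≤ bo V (f l)) (hle l)
    rw [(sf (c l)).nat _ _ (res_bo_le h (f l)) _ hcl] at h4
    exact h4.trans (hc _ _ _ _ _)
  choose t ht using key
  refine ⟨⟨fun V hV => t V hV, fun V W h hV hW => ?_⟩, fun i => ?_, fun s hs => ?_⟩
  · obtain ⟨n, f, c, hf, hle⟩ := exists_refine W U hW
    refine sep hp E hE hss n W f hf _ _ fun l => ?_
    rw [R_trans, ht V hV (c l) (bo W (f l)) _ (hle l), ht W hW (c l) (bo W (f l)) _ (hle l)]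
  · refine Fam.ext (funext fun V => funext fun hV => ?_)
    show t V _ = (sf i).val V hV
    rw [← ht V (hV.trans (le_iSup U i)) i V (le_refl V) hV, R_self]
  · refine Fam.ext (funext fun V => funext fun hV => ?_)
    show s.val V hV = t V hV
    obtain ⟨n, f, c, hf, hle⟩ := exists_refine V U hV
    refine sep hp E hE hss n V f hf _ _ fun l => ?_
    rw [s.nat V (bo V (f l)) (bo_le V (f l)) hV (le_trans (hle l) (le_iSup U (c l))),
      ht V hV (c l) (bo V (f l)) _ (hle l)]
    exact congrArg (fun r : Fam F (U (c l)) => r.val (bo V (f l)) (hle l)) (hs (c l))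

/-- evaluation at an affine open -/
def evalEquiv (F : (X.affineOpens)ᵒᵖ ⥤ Type u) (V : X.affineOpens) : Fam F V.1 ≃ F.obj (op V) where
  toFun s := s.val V le_rfl
  invFun a := ⟨fun W hW => R F (show W ≤ V from hW) a, fun W W' h hW hW' => R_trans F _ _ a⟩
  left_inv s := Fam.ext (funext fun W => funext fun hW => s.nat V W hW le_rfl hW)
  right_inv a := R_self F a

theorem exists_sheaf {F : (X.affineOpens)ᵒᵖ ⥤ Type u} (hp : Pair F) (E : X.affineOpens) (hE : (E : X.Opens) = ⊥)
    (hss : Subsingleton (F.obj (op E))) (hne : Nonempty (F.obj (op E))) :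
    ∃ G : TopCat.Sheaf (Type u) X.carrier, Nonempty ((incl X).op ⋙ G.1 ≅ F) := by
  refine ⟨⟨ext F, isSheaf_ext hp E hE hss hne⟩, ⟨NatIso.ofComponents (fun V => (evalEquiv F V.unop).toIso) ?_⟩⟩
  intro V W i
  ext s
  exact (Fam.nat (F := F) s V.unop W.unop i.unop.le le_rfl i.unop.le).symm

theorem empty_of_iso {F : (X.affineOpens)ᵒᵖ ⥤ Type u} (G : TopCat.Sheaf (Type u) X.carrier)
    (e : (incl X).op ⋙ G.1 ≅ F) (E : X.affineOpens) (hE : (E : X.Opens) = ⊥) :
    Nonempty (F.obj (op E)) ∧ Subsingleton (F.obj (op E)) := by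
  have hcov : E.1 ≤ iSup (fun i : PEmpty.{u+1} => (i.elim : X.Opens)) := by rw [hE]; exact bot_le
  obtain ⟨s, -, -⟩ := G.existsUnique_gluing' (fun i : PEmpty.{u+1} => (i.elim : X.Opens)) E.1
    (fun i => i.elim) hcov (fun i => i.elim) (fun i => i.elim)
  have eq1 : ∀ a b : G.1.obj (op E.1), a = b := fun a b =>
    G.eq_of_locally_eq' (fun i : PEmpty.{u+1} => (i.elim : X.Opens)) E.1 (fun i => i.elim) hcov a b (fun i => i.elim)
  refine ⟨⟨e.hom.app (op E) s⟩, ⟨fun a b => ?_⟩⟩
  rw [show a = e.hom.app (op E) (e.inv.app (op E) a) from (congr($(e.inv_hom_id_app (op E)) a)).symm,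
    show b = e.hom.app (op E) (e.inv.app (op E) b) from (congr($(e.inv_hom_id_app (op E)) b)).symm,
    eq1 (e.inv.app (op E) a) (e.inv.app (op E) b)]

theorem pair_of_iso {F : (X.affineOpens)ᵒᵖ ⥤ Type u} (G : TopCat.Sheaf (Type u) X.carrier)
    (e : (incl X).op ⋙ G.1 ≅ F) : Pair F := by
  intro U f g hU
  let P : ULift.{u} Bool → X.Opens := fun b => if b.down then X.basicOpen f else X.basicOpen g
  have hle : ∀ b, P b ≤ U.1 := by
    rintro ⟨b⟩; cases b <;> exact X.basicOpen_le _
  have hcov : U.1 ≤ iSup P := hU.trans (sup_le (le_iSup P ⟨true⟩) (le_iSup P ⟨false⟩))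
  have nat : ∀ {V W : X.affineOpens} (h : W ≤ V) (a : F.obj (op V)),
      e.inv.app (op W) (R F h a) = G.1.map (homOfLE (show W.1 ≤ V.1 from h)).op (e.inv.app (op V) a) := by
    intro V W h a
    exact congr($(e.inv.naturality (homOfLE h).op) a)
  have inj : ∀ (V : X.affineOpens) (a b : F.obj (op V)), e.inv.app (op V) a = e.inv.app (op V) b → a = b := by
    intro V a b h
    have := congrArg (fun z => e.hom.app (op V) z) h
    exact (congr($(e.inv_hom_id_app (op V)) a)).symm.trans (this.trans congr($(e.inv_hom_id_app (op V)) b))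
  refine ⟨fun s t hf hg => inj U _ _ (G.eq_of_locally_eq' P U.1 (fun b => homOfLE (hle b)) hcov _ _ ?_), ?_⟩
  · rintro ⟨b⟩
    cases b
    · exact (nat (bo_le U g) s).symm.trans ((congrArg _ hg).trans (nat (bo_le U g) t))
    · exact (nat (bo_le U f) s).symm.trans ((congrArg _ hf).trans (nat (bo_le U f) t))
  · intro a b hab
    let sf : ∀ i : ULift.{u} Bool, G.1.obj (op (P i)) := fun i => match i with
      | ⟨true⟩ => e.inv.app (op (bo U f)) a
      | ⟨false⟩ => e.inv.app (op (bo U g)) b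
    have h1 : bo U (f * g) ≤ bo U f := (X.basicOpen_mul f g).trans_le inf_le_left
    have h2 : bo U (f * g) ≤ bo U g := (X.basicOpen_mul f g).trans_le inf_le_right
    have h12 := congrArg (fun z => e.inv.app (op (bo U (f * g))) z) (hab h1 h2)
    simp only [nat] at h12
    have step : ∀ (O : X.Opens) (p : O ≤ X.basicOpen (f * g)) (q1 : O ≤ X.basicOpen f) (q2 : O ≤ X.basicOpen g),
        G.1.map (homOfLE q1).op (e.inv.app (op (bo U f)) a) = G.1.map (homOfLE q2).op (e.inv.app (op (bo U g)) b) := by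
      intro O p q1 q2
      rw [show (homOfLE q1).op = (homOfLE (show X.basicOpen (f * g) ≤ X.basicOpen f from h1)).op ≫ (homOfLE p).op
          from Subsingleton.elim _ _,
        show (homOfLE q2).op = (homOfLE (show X.basicOpen (f * g) ≤ X.basicOpen g from h2)).op ≫ (homOfLE p).op
          from Subsingleton.elim _ _]
      simp only [G.1.map_comp]
      exact congrArg (fun z => G.1.map (homOfLE p).op z) h12
    have hcomp : TopCat.Presheaf.IsCompatible G.1 P sf := by
      rintro ⟨i⟩ ⟨j⟩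
      cases i <;> cases j
      · rfl
      · refine (step _ ?_ _ _).symm
        exact (X.basicOpen_mul f g).symm ▸ le_inf inf_le_right inf_le_left
      · refine step _ ?_ _ _
        exact (X.basicOpen_mul f g).symm ▸ le_inf inf_le_left inf_le_right
      · rfl
    obtain ⟨s, hs, -⟩ := G.existsUnique_gluing' P U.1 (fun i => homOfLE (hle i)) hcov sf hcomp
    refine ⟨e.hom.app (op U) s, inj _ _ _ ?_, inj _ _ _ ?_⟩
    · rw [nat]
      refine Eq.trans (congrArg (fun z => G.1.map _ z) ?_) (hs ⟨true⟩)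
      exact congr($(e.hom_inv_id_app (op U)) s)
    · rw [nat]
      refine Eq.trans (congrArg (fun z => G.1.map _ z) ?_) (hs ⟨false⟩)
      exact congr($(e.hom_inv_id_app (op U)) s)

end Groth.Agent.AffBasis
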